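import Mathlib
import Cfsg.Prelude.Def_GeometricClasses

/-!
# S5886 piece project: definitions (abstract framework)

`F ⊆ K` finite fields, `V` a `K`-vector space (hence an `F`-space).  All groups are subgroups of
`V ≃ₗ[F] V`.  See `departures/helper2_s5886_pieces.md`.
-/

set_option autoImplicit false

namespace Cfsg.Agent.S5886P

variable {F K V : Type*} [Field F] [Field K] [Algebra F K]
  [AddCommGroup V] [Module F V] [Module K V] [IsScalarTower F K V]

/-- `g` is `σ`-semilinear: `g (k • x) = σ k • g x`. -/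
def IsSemi (σ : K ≃ₐ[F] K) (g : V →ₗ[F] V) : Prop :=
  ∀ (k : K) (x : V), g (k • x) = σ k • g x

variable (F K V) in
/-- The group of `K`-semilinear `F`-automorphisms of `V` (the normaliser of `K`). -/
def Nrm : Subgroup (V ≃ₗ[F] V) where
  carrier := {g | ∃ σ : K ≃ₐ[F] K, IsSemi σ (g : V →ₗ[F] V)}
  mul_mem' := by
    rintro a b ⟨σ, hσ⟩ ⟨τ, hτ⟩
    refine ⟨τ.trans σ, fun k x => ?_⟩
    have h1 := hτ k x
    have h2 := hσ (τ k) (b x)
    simp only [LinearEquiv.coe_coe] at h1 h2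
    simp only [LinearEquiv.coe_coe, LinearEquiv.mul_apply, AlgEquiv.trans_apply, h1, h2]
  one_mem' := ⟨AlgEquiv.refl, fun k x => by simp⟩
  inv_mem' := by
    rintro a ⟨σ, hσ⟩
    refine ⟨σ.symm, fun k x => ?_⟩
    have h := hσ (σ.symm k) (a⁻¹ x)
    simp only [LinearEquiv.coe_coe] at h ⊢
    apply a.injective
    rw [h]
    simp

/-- The subgroup of automorphisms with determinant in `Δ`. -/
noncomputable def DetIn (Δ : Subgroup Fˣ) : Subgroup (V ≃ₗ[F] V) := Δ.comap LinearEquiv.det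

/-- The `K`-line through `v`, as an `F`-subspace. -/
def Kline (v : V) : Submodule F V := (Submodule.span K {v}).restrictScalars F

/-- The nilpotent `F`-endomorphisms `A` with `A V ⊆ L` and `A L = 0`. -/
def ulie (L : Submodule F V) : Submodule F (V →ₗ[F] V) where
  carrier := {A | (∀ x, A x ∈ L) ∧ ∀ x ∈ L, A x = 0}
  add_mem' := by
    rintro A B ⟨hA1, hA2⟩ ⟨hB1, hB2⟩
    exact ⟨fun x => by simpa using L.add_mem (hA1 x) (hB1 x), fun x hx => by simp [hA2 x hx, hB2 x hx]⟩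
  zero_mem' := ⟨fun x => by simp, fun x _ => by simp⟩
  smul_mem' := by
    rintro c A ⟨hA1, hA2⟩
    exact ⟨fun x => by simpa using L.smul_mem c (hA1 x), fun x hx => by simp [hA2 x hx]⟩

/-- The elements `A` of `ulie L` with `1 + A ∈ M`. -/
def yset (M : Subgroup (V ≃ₗ[F] V)) (L : Submodule F V) : Set (V →ₗ[F] V) :=
  {A | A ∈ ulie L ∧ ∃ g ∈ M, ∀ x, g x = x + A x}

/-- The set of Galois elements `σ` such that `yset M L` contains a non-zero `σ`-semilinear map. -/
def Sig (M : Subgroup (V ≃ₗ[F] V)) (L : Submodule F V) : Set (K ≃ₐ[F] K) :=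
  {σ | ∃ A ∈ yset M L, IsSemi σ A ∧ A ≠ 0}

/-- `g` is an `F`-transvection: `g x = x + f x • u` with `f u = 0`. -/
def IsFTv (g : V ≃ₗ[F] V) : Prop :=
  ∃ (f : V →ₗ[F] F) (u : V), f u = 0 ∧ ∀ x, g x = x + f x • u

/-- `g` is a `K`-transvection: `g x = x + ψ x • u` with `ψ` `K`-linear and `ψ u = 0`. -/
def IsKTv (g : V ≃ₗ[F] V) : Prop :=
  ∃ (ψ : V →ₗ[K] K) (u : V), ψ u = 0 ∧ ∀ x, g x = x + ψ x • u

variable (F K V) in
/-- The subgroup generated by the `K`-transvections (it is `SL_K(V)`, which is not needed). -/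
def KTV : Subgroup (V ≃ₗ[F] V) := Subgroup.closure {g | IsKTv (K := K) g}

/-- The `σ`-component of an `F`-linear endomorphism of `V` (explicit formula with a trace-dual basis of `K/F`). -/
noncomputable def proj [Finite F] [Finite K] (σ : K ≃ₐ[F] K) (A : V →ₗ[F] V) : V →ₗ[F] V :=
  ∑ i, σ ((Algebra.traceForm F K).dualBasis (traceForm_nondegenerate F K) (Module.finBasis F K) i) •
    (A ∘ₗ DistribSMul.toLinearMap F V (Module.finBasis F K i))

/-- pointwise stabiliser of the vectors `v`, `w` in `M`. -/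
def Stab2 (M : Subgroup (V ≃ₗ[F] V)) (v w : V) : Subgroup (V ≃ₗ[F] V) where
  carrier := {g | g ∈ M ∧ g v = v ∧ g w = w}
  mul_mem' := by
    rintro a b ⟨ha, ha1, ha2⟩ ⟨hb, hb1, hb2⟩
    exact ⟨M.mul_mem ha hb, by simp [LinearEquiv.mul_apply, hb1, ha1], by simp [LinearEquiv.mul_apply, hb2, ha2]⟩
  one_mem' := ⟨M.one_mem, rfl, rfl⟩
  inv_mem' := by
    rintro a ⟨ha, ha1, ha2⟩
    refine ⟨M.inv_mem ha, ?_, ?_⟩
    · apply a.injective; rw [ha1]; simp
    · apply a.injective; rw [ha2]; simp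

/-- stabiliser in `M` of `v` and of the coset `w + F v`. -/
def Stab2c (M : Subgroup (V ≃ₗ[F] V)) (v w : V) : Subgroup (V ≃ₗ[F] V) where
  carrier := {g | g ∈ M ∧ g v = v ∧ ∃ a : F, g w = w + a • v}
  mul_mem' := by
    rintro a b ⟨ha, ha1, c, ha2⟩ ⟨hb, hb1, d, hb2⟩
    refine ⟨M.mul_mem ha hb, by simp [LinearEquiv.mul_apply, hb1, ha1], c + d, ?_⟩
    simp [LinearEquiv.mul_apply, hb2, ha2, ha1, add_smul, add_assoc]
  one_mem' := ⟨M.one_mem, rfl, 0, by simp⟩
  inv_mem' := by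
    rintro a ⟨ha, ha1, c, ha2⟩
    have h1 : a⁻¹ v = v := by
      apply a.injective; rw [ha1]; simp
    refine ⟨M.inv_mem ha, h1, -c, ?_⟩
    apply a.injective
    have : a (a⁻¹ w) = w := by simp
    rw [this, map_add, map_smul, ha1, ha2]
    simp [add_assoc]

/-- pointwise stabiliser of the subspace `L` in `M`. -/
def StabPt (M : Subgroup (V ≃ₗ[F] V)) (L : Submodule F V) : Subgroup (V ≃ₗ[F] V) where
  carrier := {g | g ∈ M ∧ ∀ x ∈ L, g x = x}
  mul_mem' := by
    rintro a b ⟨ha, ha1⟩ ⟨hb, hb1⟩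
    exact ⟨M.mul_mem ha hb, fun x hx => by simp [LinearEquiv.mul_apply, hb1 x hx, ha1 x hx]⟩
  one_mem' := ⟨M.one_mem, fun _ _ => rfl⟩
  inv_mem' := by
    rintro a ⟨ha, ha1⟩
    refine ⟨M.inv_mem ha, fun x hx => ?_⟩
    apply a.injective; rw [ha1 x hx]; simp

/-- fixed space of `g`. -/
def FixSp (g : V ≃ₗ[F] V) : Submodule F V := LinearMap.ker ((g : V →ₗ[F] V) - 1)

/-- `Q` is a Sylow `p`-subgroup of the subgroup `H` (predicate form, all inside one ambient group). -/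
def IsSylIn {G : Type*} [Group G] (p : ℕ) (H Q : Subgroup G) : Prop :=
  Q ≤ H ∧ IsPGroup p Q ∧ ∀ Q' : Subgroup G, Q' ≤ H → IsPGroup p Q' → Q ≤ Q' → Q' = Q

instance instFiniteLinearEquiv [Finite V] : Finite (V ≃ₗ[F] V) :=
  Finite.of_injective (fun g : V ≃ₗ[F] V => (g : V → V)) (fun _ _ h => LinearEquiv.ext (congrFun h))

end Cfsg.Agent.S5886P
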