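import Mathlib
import Cfsg.Prelude.Def_GeometricClasses
import Cfsg.Agent.Helper2.S5886.Defs
import Cfsg.Agent.Helper1.S5886SPECIAL
import Cfsg.Agent.Helper11.S5886C1
import Cfsg.Agent.Helper11.S5886SYLH1
import Cfsg.Agent.Helper11.S5886UNIV
import Cfsg.Agent.Helper14.S5886C4
import Cfsg.Agent.Helper14.S5886DETSURJ
import Cfsg.Agent.Helper14.S5886TVSL
import Cfsg.Agent.Helper16.S5886MULTB
import Cfsg.Agent.Helper18.S5886NOTIN
import Cfsg.Agent.Helper18.S5886TVGEN
import Cfsg.Agent.Helper2.S5886MULTA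
import Cfsg.Agent.Helper20.S5886C3
import Cfsg.Agent.Helper20.S5886KLIN
import Cfsg.Agent.Helper20.S5886YBIMOD
import Cfsg.Agent.Helper21.S5886KTRANS2
import Cfsg.Agent.Helper21.S5886LINES
import Cfsg.Agent.Helper22.S5886C5
import Cfsg.Agent.Helper22.S5886PROJB
import Cfsg.Agent.Helper22.S5886YADD
import Cfsg.Agent.Helper23.S5886GALFIX
import Cfsg.Agent.Helper23.S5886KTVP
import Cfsg.Agent.Helper23.S5886NORMONE
import Cfsg.Agent.Helper26.S5886MOVE
import Cfsg.Agent.Helper26.S5886PROJA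
import Cfsg.Agent.Helper3.S5886FTVDET
import Cfsg.Agent.Helper4.S5886SYLGENA
import Cfsg.Agent.Helper4.S5886SYLGENB
import Cfsg.Agent.Helper6.S5886KTRANS
import Cfsg.Agent.Helper6.S5886KTVLE
import Cfsg.Agent.Helper8.S5886C2
import Cfsg.Agent.Helper8.S5886FIXL
import Cfsg.Agent.Lead.S5886TVK
import Cfsg.Agent.Lead.S5886YFULL

set_option autoImplicit false

namespace Cfsg.Agent.S5886P

variable {F K V : Type*} [Field F] [Field K] [Algebra F K]
  [AddCommGroup V] [Module F V] [Module K V] [IsScalarTower F K V]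

theorem detIn_mono {Δ₁ Δ₂ : Subgroup Fˣ} (h : Δ₁ ≤ Δ₂) :
    (DetIn Δ₁ : Subgroup (V ≃ₗ[F] V)) ≤ DetIn Δ₂ := fun _ hg => h hg

theorem mem_kline_self (v : V) : v ∈ Kline (F := F) (K := K) v := by
  show v ∈ Submodule.span K {v}
  exact Submodule.mem_span_singleton_self v

/-- the non-full case is contradictory -/
theorem contra [Finite F] [Finite K] [Finite V] (hm : 2 ≤ Module.finrank K V)
    (hr : (Module.finrank F K).Prime) (Δ : Subgroup Fˣ)
    (M : Subgroup (V ≃ₗ[F] V)) (hN : Nrm F K V ⊓ DetIn Δ ≤ M) (hMΔ : M ≤ DetIn Δ)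
    (v : V) (k : K) (h : V ≃ₗ[F] V) (hv : v ≠ 0)
    (hh : h ∈ M) (hhv : h v = v) (hhk : h (k • v) ∉ Kline (F := F) (K := K) v)
    (hS : Sig (K := K) M (Kline (F := F) (K := K) v) ≠ Set.univ) : False := by
  have hN0 : Nrm F K V ⊓ DetIn (⊥ : Subgroup Fˣ) ≤ M :=
    le_trans (inf_le_inf_left _ (detIn_mono bot_le)) hN
  have hKTV : KTV F K V ≤ M := le_trans KTVLE hN0
  have S1 : ∀ g ∈ M, (∀ x ∈ Kline (F := F) (K := K) v, g x ∈ Kline (F := F) (K := K) v) → g v = v →
      ∃ σ : K ≃ₐ[F] K, ∀ c : K, g (c • v) = σ c • v := by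
    intro g hg hgL hgv
    obtain ⟨σ, h1, -⟩ := MULTA hm hr M hN0 v hv hS g hg hgL
    refine ⟨σ, fun c => ?_⟩
    have := h1 c v (mem_kline_self v)
    rw [this, hgv]
  obtain ⟨p, hp⟩ := CharP.exists F
  have := hp
  have : Fact p.Prime := ⟨CharP.char_is_prime F p⟩
  by_cases hrp : Module.finrank F K = p
  · by_cases h3 : 3 ≤ p
    · exact C2 p hm hrp h3 M hN0 v k h hv hh hhv hhk S1
    · have hp2 : p = 2 := by
        have := (Fact.out : p.Prime).two_le
        omega
      subst hp2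
      obtain ⟨S2, S3⟩ := KLIN hm hrp Δ M hN hMΔ v hv hS
      by_cases hm3 : 3 ≤ Module.finrank K V
      · exact C3 hm3 hrp M hN0 v k h hv hh hhv hhk S2
      · have hm2 : Module.finrank K V = 2 := by omega
        by_cases hq : 2 < Nat.card F
        · exact C4 2 hm hrp hq M hKTV v k h hv hh hhv hhk S1
        · have hF2 : Nat.card F = 2 := by
            have : 1 < Nat.card F := Finite.one_lt_card
            omega
          have hN' : Nrm F K V ≤ M := by
            intro n hn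
            refine hN ⟨hn, ?_⟩
            show LinearEquiv.det n ∈ Δ
            have hsub : Subsingleton Fˣ := by
              classical
              haveI : Fintype F := Fintype.ofFinite F
              have hc : Fintype.card Fˣ = 1 := by
                rw [Fintype.card_units, ← Nat.card_eq_fintype_card, hF2]
              exact Fintype.card_le_one_iff_subsingleton.mp hc.le
            rw [Subsingleton.elim (LinearEquiv.det n) 1]
            exact Δ.one_mem
          exact C5 hF2 hrp hm2 M hN' v k h hv hh hhv hhk S2 S3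
  · exact C1 p hm hr hrp M hKTV v k h hv hh hhv hhk S1

/-- the abstract main theorem -/
theorem main_abs [Finite F] [Finite K] [Finite V] (hm : 2 ≤ Module.finrank K V)
    (hr : (Module.finrank F K).Prime) (Δ : Subgroup Fˣ)
    (M : Subgroup (V ≃ₗ[F] V)) (hN : Nrm F K V ⊓ DetIn Δ ≤ M) (hMΔ : M ≤ DetIn Δ)
    (hM : ¬ M ≤ Nrm F K V) : DetIn (⊥ : Subgroup Fˣ) ≤ M := by
  have hN0 : Nrm F K V ⊓ DetIn (⊥ : Subgroup Fˣ) ≤ M :=
    le_trans (inf_le_inf_left _ (detIn_mono bot_le)) hN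
  have hKTV : KTV F K V ≤ M := le_trans KTVLE hN0
  obtain ⟨v, k, h, hv, hh, hhv, hhk⟩ := MOVE hm M hKTV hM
  by_cases hS : Sig (K := K) M (Kline (F := F) (K := K) v) = Set.univ
  · have hn : 2 ≤ Module.finrank F V := by
      have h1 := Module.finrank_mul_finrank F K V
      have h2 := hr.two_le
      nlinarith
    refine TVSL hn M (fun g hg => TVGEN hm M ?_ g hg)
    intro f u hfu g hg
    exact TVK hm M hKTV v hv (fun A hA => UNIV hm hr.two_le M hN0 v hv hS A hA) f u hfu g hg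
  · exact (contra hm hr Δ M hN hMΔ v k h hv hh hhv hhk hS).elim

/-- `Nrm` is a maximal subgroup. -/
theorem abs_coatom [Finite F] [Finite K] [Finite V] (hm : 2 ≤ Module.finrank K V)
    (hr : (Module.finrank F K).Prime) : IsCoatom (Nrm F K V) := by
  constructor
  · obtain ⟨g, -, hg⟩ := NOTIN (F := F) (K := K) (V := V) hm hr.two_le
    intro htop
    exact hg (htop ▸ Subgroup.mem_top g)
  · intro M hlt
    have hM : ¬ M ≤ Nrm F K V := fun hle => (lt_irrefl _ (lt_of_lt_of_le hlt hle))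
    have hSL : DetIn (⊥ : Subgroup Fˣ) ≤ M :=
      main_abs hm hr ⊤ M (le_trans inf_le_left hlt.le) (fun _ _ => Subgroup.mem_top _) hM
    rw [eq_top_iff]
    intro g _
    obtain ⟨n, hn, hdet⟩ := DETSURJ (K := K) (by omega) g
    have hgn : g * n⁻¹ ∈ DetIn (⊥ : Subgroup Fˣ) := by
      show LinearEquiv.det (g * n⁻¹) ∈ (⊥ : Subgroup Fˣ)
      rw [map_mul, map_inv, hdet, mul_inv_cancel]
      exact Subgroup.one_mem _
    have : g = g * n⁻¹ * n := by group
    rw [this]
    exact M.mul_mem (hSL hgn) (hlt.le hn)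

/-- `Nrm ⊓ SL` is maximal in `SL`. -/
theorem abs_max [Finite F] [Finite K] [Finite V] (hm : 2 ≤ Module.finrank K V)
    (hr : (Module.finrank F K).Prime) :
    Nrm F K V ⊓ DetIn (⊥ : Subgroup Fˣ) < (DetIn (⊥ : Subgroup Fˣ) : Subgroup (V ≃ₗ[F] V)) ∧
      ∀ M : Subgroup (V ≃ₗ[F] V), Nrm F K V ⊓ DetIn (⊥ : Subgroup Fˣ) ≤ M →
        M ≤ DetIn (⊥ : Subgroup Fˣ) → M = Nrm F K V ⊓ DetIn (⊥ : Subgroup Fˣ) ∨ M = DetIn (⊥ : Subgroup Fˣ) := by
  constructor
  · refine lt_of_le_of_ne inf_le_right ?_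
    obtain ⟨g, hg1, hg2⟩ := NOTIN (F := F) (K := K) (V := V) hm hr.two_le
    intro heq
    have : g ∈ Nrm F K V ⊓ DetIn (⊥ : Subgroup Fˣ) := by
      rw [heq]
      exact FTVDET g hg1
    exact hg2 this.1
  · intro M h1 h2
    by_cases hM : M ≤ Nrm F K V
    · left
      exact le_antisymm (le_inf hM h2) h1
    · right
      exact le_antisymm h2 (main_abs hm hr ⊥ M h1 h2 hM)

end Cfsg.Agent.S5886P
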